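import Cfsg.Agent.H56.ClassModel
import Cfsg.Agent.H56.Fields
import Cfsg.Agent.H56.IsoK

/-! `O₆⁻(2)` on 27 points. -/

set_option autoImplicit false

namespace Cfsg.Agent.H15.LF.O6

open H14 H56

def VT : ℕ := nat_lit 0x35ccbb7f953ede899c2ec46dd235ac6a9a0657bd
def R : BT := (.node (nat_lit 29) (.node (nat_lit 9) (.node (nat_lit 4) (.node (nat_lit 2) (.leaf (nat_lit 3)) (.node (nat_lit 3) (.leaf (nat_lit 14)) (.leaf (nat_lit 26)))) (.node (nat_lit 6) (.leaf (nat_lit 12)) (.node (nat_lit 8) (.leaf (nat_lit 6)) (.leaf (nat_lit 9))))) (.node (nat_lit 21) (.node (nat_lit 12) (.leaf (nat_lit 16)) (.node (nat_lit 15) (.leaf (nat_lit 24)) (.leaf (nat_lit 19)))) (.node (nat_lit 26) (.node (nat_lit 23) (.leaf (nat_lit 20)) (.leaf (nat_lit 25))) (.node (nat_lit 27) (.leaf (nat_lit 4)) (.leaf (nat_lit 11)))))) (.node (nat_lit 46) (.node (nat_lit 39) (.node (nat_lit 30) (.leaf (nat_lit 10)) (.node (nat_lit 37) (.leaf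 (nat_lit 1)) (.leaf (nat_lit 2)))) (.node (nat_lit 43) (.node (nat_lit 42) (.leaf (nat_lit 15)) (.leaf (nat_lit 5))) (.node (nat_lit 45) (.leaf (nat_lit 7)) (.leaf (nat_lit 18))))) (.node (nat_lit 58) (.node (nat_lit 53) (.leaf (nat_lit 23)) (.node (nat_lit 55) (.leaf (nat_lit 8)) (.leaf (nat_lit 22)))) (.node (nat_lit 61) (.node (nat_lit 59) (.leaf (nat_lit 17)) (.leaf (nat_lit 13))) (.node (nat_lit 62) (.leaf (nat_lit 0)) (.leaf (nat_lit 21)))))))
def gs : List (ℕ × ℕ) := [(nat_lit 0x5341ab9c2, nat_lit 0x43557d338b5e4e14cf1025845a14d31461), (nat_lit 0xe07d6e25e, nat_lit 0x4db1d64b7462c0ad24a1c1ee6242b21cc2)]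
def gens : List ℕ := [nat_lit 0x43557d338b5e4e14cf1025845a14d31461, nat_lit 0x4db1d64b7462c0ad24a1c1ee6242b21cc2]
def certL0 : Lev := ⟨nat_lit 0, nat_lit 0x7ffffff, (.node (nat_lit 13) (.node (nat_lit 6) (.node (nat_lit 3) (.node (nat_lit 1) (.leaf (nat_lit 0x6b38bdab49ca307b9ac5a928398a418820)) (.node (nat_lit 2) (.leaf (nat_lit 0x1483542f43da4f8cd3a5e5c66e0351200c)) (.leaf (nat_lit 0x5177741226e703d55ec44cb6944c13808a)))) (.node (nat_lit 4) (.leaf (nat_lit 0x12f4b1c709cb4553eae68738489060458b)) (.node (nat_lit 5) (.leaf (nat_lit 0x58f28694f25681ce2e9338538b0606ad05)) (.leaf (nat_lit 0x9012ea566ce37639593d6032501879969))))) (.node (nat_lit 9) (.node (nat_lit 7) (.leaf (nat_lit 0x60275caca7e6041e8d542697280519b98d)) (.node (nat_lit 8) (.leaf (nat_lit 0x3a1916355a3ef32d9720b22d01127428c3)) (.leaf (nat_lit 0x6cacbcf2d42b8592342892034dd760da8)))) (.node (nat_lit 11) (.node (nat_lit 10) (.leaf (nat_lit 0x1dc60cf19922da5520d614045dc51aa46f))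 (.leaf (nat_lit 0x22569b43a747222df10202b453cc35b127))) (.node (nat_lit 12) (.leaf (nat_lit 0x43557d338b5e4e14cf1025845a14d31461)) (.leaf (nat_lit 0x3b19448d3a59a70ea20588b7855241a9ec)))))) (.node (nat_lit 20) (.node (nat_lit 16) (.node (nat_lit 14) (.leaf (nat_lit 0x4dda2d619c09f6550171c6470b58b22506)) (.node (nat_lit 15) (.leaf (nat_lit 0x234e3e635b05523028f1ac45613104b6f3)) (.leaf (nat_lit 0xe89d097783b35036585158145a6f898e4)))) (.node (nat_lit 18) (.node (nat_lit 17) (.leaf (nat_lit 0x4db1d64b7462c0ad24a1c1ee6242b21cc2)) (.leaf (nat_lit 0x4ab1b8d34ce81079da8612655056e362c2))) (.node (nat_lit 19) (.leaf (nat_lit 0x1b306d598980b11aed709de24a29a5124e)) (.leaf (nat_lit 0x6a350d9d9029e83ca0266164a25a5b9a63))))) (.node (nat_lit 23) (.node (nat_lit 21) (.leaf (nat_lit 0x2f57cb08046261854b4919b179dc915943)) (.node (nat_lit 22) (.leaf (nat_lit 0x22930940d89eb985c5a25b0c349435bdc9)) (.leaf (nat_lit 0x5c7aa01e793624996aa72039c592660970))))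 (.node (nat_lit 25) (.node (nat_lit 24) (.leaf (nat_lit 0x659804e15596e66c74f4d0e8b288290dc1)) (.leaf (nat_lit 0x650083693284f77c4d54e343232c29296e))) (.node (nat_lit 26) (.leaf (nat_lit 0x500d3c665bd7480e47832ad212dec74124)) (.leaf (nat_lit 0x265addb1ceb143a19613d4b1ba1248486)))))))⟩
def certC0 : LevCert := ⟨certL0,
    [(nat_lit 11, nat_lit 0), (nat_lit 16, nat_lit 1), (nat_lit 7, nat_lit 0), (nat_lit 4, nat_lit 1), (nat_lit 26, nat_lit 0), (nat_lit 10, nat_lit 1), (nat_lit 13, nat_lit 0), (nat_lit 2, nat_lit 1), (nat_lit 8, nat_lit 0), (nat_lit 3, nat_lit 1), (nat_lit 25, nat_lit 0), (nat_lit 23, nat_lit 1), (nat_lit 5, nat_lit 0), (nat_lit 12, nat_lit 1), (nat_lit 15, nat_lit 0), (nat_lit 6, nat_lit 0), (nat_lit 19, nat_lit 1), (nat_lit 1, nat_lit 0), (nat_lit 21, nat_lit 0), (nat_lit 22, nat_lit 1), (nat_lit 18, nat_lit 0), (nat_lit 20, nat_lit 1), (nat_lit 9, nat_lit 0), (nat_lit 14, nat_lit 0), (nat_lit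 24, nat_lit 0), (nat_lit 17, nat_lit 1)],
    [[nat_lit 0, nat_lit 2, nat_lit 2, nat_lit 0, nat_lit 0], [nat_lit 4, nat_lit 2, nat_lit 2, nat_lit 2, nat_lit 4, nat_lit 4, nat_lit 4, nat_lit 4, nat_lit 2]],
    [nat_lit 0x3cb78d08382ad341db263b5559b29c0440, nat_lit 0x69b8932a29de91c8527b39e45a0c554060]⟩
def certL1 : Lev := ⟨nat_lit 1, nat_lit 0x1df5c8e, (.node (nat_lit 16) (.node (nat_lit 10) (.node (nat_lit 3) (.node (nat_lit 2) (.leaf (nat_lit 0x6b38bdab49ca307b9ac5a928398a418820)) (.leaf (nat_lit 0x3cb78d08382ad341db263b5559b29c0440))) (.node (nat_lit 7) (.leaf (nat_lit 0x653275ca38d14c3435612c8f3d50d0cf00)) (.leaf (nat_lit 0x1aa7761a29323642de3a4cb90934955e00)))) (.node (nat_lit 12) (.node (nat_lit 11) (.leaf (nat_lit 0x64d2a08aa8b99322d3738755b21afc0e00)) (.leaf (nat_lit 0x174a3c738b0dd234df40b128592ad142e0))) (.node (nat_lit 14) (.leaf (nat_lit 0x54cc163528ad5329d217588fba1b9a0e00)) (.leaf (nat_lit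 0x69b8932a29de91c8527b39e45a0c554060))))) (.node (nat_lit 20) (.node (nat_lit 18) (.node (nat_lit 17) (.leaf (nat_lit 0x3d175309684661d38b45e1a69653510ce0)) (.leaf (nat_lit 0x3f578ac93828236e10c908b9a26a63d9c0))) (.node (nat_lit 19) (.leaf (nat_lit 0x11b4629f898451ad92ebaf253a0da94060)) (.leaf (nat_lit 0x692a9daa20e190348b1a39e45e50db9c60)))) (.node (nat_lit 23) (.node (nat_lit 22) (.leaf (nat_lit 0x3db7548818447628b4ba1d09654d974f00)) (.leaf (nat_lit 0x14ca1872eb1e504b351589e4a55a8be260))) (.node (nat_lit 24) (.leaf (nat_lit 0x36b10ccc718970cd10a661e492745bbac0)) (.leaf (nat_lit 0x674159cb78626324902551a6626af8d9c0))))))⟩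
def certC1 : LevCert := ⟨certL1,
    [(nat_lit 2, nat_lit 0), (nat_lit 14, nat_lit 1), (nat_lit 20, nat_lit 1), (nat_lit 10, nat_lit 0), (nat_lit 22, nat_lit 0), (nat_lit 17, nat_lit 1), (nat_lit 18, nat_lit 0), (nat_lit 3, nat_lit 1), (nat_lit 11, nat_lit 1), (nat_lit 23, nat_lit 0), (nat_lit 16, nat_lit 1), (nat_lit 12, nat_lit 0), (nat_lit 7, nat_lit 0), (nat_lit 24, nat_lit 0), (nat_lit 19, nat_lit 0)],
    [[nat_lit 0, nat_lit 2, nat_lit 2, nat_lit 2, nat_lit 0, nat_lit 2, nat_lit 0, nat_lit 2, nat_lit 0, nat_lit 0, nat_lit 0], [nat_lit 2, nat_lit 4, nat_lit 4, nat_lit 4, nat_lit 4, nat_lit 2]],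
    [nat_lit 0x2093be1328ac6c2db50a1ccd155f972820, nat_lit 0x2331b0d389ba90aadaa91de4618bab8820]⟩
def certL2 : Lev := ⟨nat_lit 2, nat_lit 0x11484, (.node (nat_lit 10) (.node (nat_lit 7) (.leaf (nat_lit 0x6b38bdab49ca307b9ac5a928398a418820)) (.leaf (nat_lit 0x2093be1328ac6c2db50a1ccd155f972820))) (.node (nat_lit 12) (.leaf (nat_lit 0x3731bcccb1d1d07e10c90aba524a4b1c20)) (.node (nat_lit 16) (.leaf (nat_lit 0x6b2e9dab11e17034902a29e4624adb9c20)) (.leaf (nat_lit 0x11a39b9f85d2e22db508b1283d4d992820)))))⟩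
def certC2 : LevCert := ⟨certL2,
    [(nat_lit 7, nat_lit 0), (nat_lit 10, nat_lit 0), (nat_lit 12, nat_lit 1), (nat_lit 16, nat_lit 0)],
    [[nat_lit 0, nat_lit 0, nat_lit 2, nat_lit 2, nat_lit 0, nat_lit 0], [nat_lit 2, nat_lit 2, nat_lit 2, nat_lit 2, nat_lit 4, nat_lit 2]],
    [nat_lit 0x2331b0d389ba90aadaa91de4618bab8820, nat_lit 0x11161e1f192ee72cdb0732ba51939a0820]⟩
def certL3 : Lev := ⟨nat_lit 3, nat_lit 0x1d20008, (.node (nat_lit 22) (.node (nat_lit 17) (.leaf (nat_lit 0x6b38bdab49ca307b9ac5a928398a418820)) (.node (nat_lit 20) (.leaf (nat_lit 0x6758a58b75b86a4c9a79c1e461aa888820)) (.leaf (nat_lit 0x20968e12374e8caadaa91cb9819fab8820)))) (.node (nat_lit 23) (.leaf (nat_lit 0x2331b0d389ba90aadaa91de4618bab8820)) (.node (nat_lit 24) (.leaf (nat_lit 0x11161e1f192ee72cdb0732ba51939a0820)) (.leaf (nat_lit 0x6883bc6b474acc2cdb05a928399f9c0820)))))⟩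
def certC3 : LevCert := ⟨certL3,
    [(nat_lit 22, nat_lit 0), (nat_lit 23, nat_lit 1), (nat_lit 24, nat_lit 1), (nat_lit 17, nat_lit 1), (nat_lit 20, nat_lit 0)],
    [[nat_lit 2, nat_lit 2, nat_lit 0, nat_lit 0, nat_lit 2], [nat_lit 4, nat_lit 2]],
    [nat_lit 0x1334b5df89ca30aadaa73128398ba18820, nat_lit 0x6917c52b694e277b9ac5a8b98192418820]⟩
def certL4 : Lev := ⟨nat_lit 4, nat_lit 0x4000010, (.node (nat_lit 26) (.leaf (nat_lit 0x6b38bdab49ca307b9ac5a928398a418820)) (.leaf (nat_lit 0x1334b5df89ca30aadaa73128398ba18820)))⟩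
def certC4 : LevCert := ⟨certL4,
    [(nat_lit 26, nat_lit 0)],
    [[nat_lit 0, nat_lit 2, nat_lit 0]],
    [nat_lit 0x6917c52b694e277b9ac5a8b98192418820]⟩
def certL5 : Lev := ⟨nat_lit 5, nat_lit 544, (.node (nat_lit 9) (.leaf (nat_lit 0x6b38bdab49ca307b9ac5a928398a418820)) (.leaf (nat_lit 0x6917c52b694e277b9ac5a8b98192418820)))⟩
def certC5 : LevCert := ⟨certL5,
    [(nat_lit 9, nat_lit 0)],
    [],
    []⟩
def cert : List LevCert := [certC0, certC1, certC2, certC3, certC4, certC5]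
def certL : List Lev := [certL0, certL1, certL2, certL3, certL4, certL5]
/-- the numbering of the points -/
abbrev E : Enc (Fin 27) 27 5 32 := finEnc 27 5 32 rfl (by decide)
theorem ok : modelOK F2 6 27 5 32 VT R false gs cert 51840 = true := by
  decide +kernel

/-- the permutation group -/
abbrev K : Subgroup (Equiv.Perm (Fin 27)) := E.grp gens

theorem model : E.IsChain certL K ∧
    Nonempty (isometryGroup (ZMod 2) (quadFormMinus 2 (ZMod 2) 1 1) ≃* K) := by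
  obtain ⟨ι, -⟩ := exists_hom F2 (F := ZMod 2) rfl
  obtain ⟨φ, h⟩ := model_iso ι (eMinus 2) E (Q := quadFormMinus 2 (ZMod 2) 1 1) (U := uMinus F2 2 1 1)
    (fun v => by simpa only [dec_one] using quadFormMinus_eq ι 2 (a := 1) (b := 1) (by decide) (by decide) v)
    (m := 17) ok (by decide +kernel) (by rw [card_isoMinus (by decide), Nat.card_zmod]; decide)
  exact ⟨h.chain, h.equiv⟩

end Cfsg.Agent.H15.LF.O6
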